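/-
Relative critical subgroups: for a normal subgroup `R` of a `p`-group `P` invariant under a group
`G` of automorphisms containing the inner ones, a `G`-invariant subgroup `C ≤ R` with
`⁅C, P⁆ ≤ Z(C)`, `p`-th powers central in `C` and `C_R(C) ≤ C`.

* `exists_critical` : existence
-/
import Cfsg.Agent.EqLemmas
import Cfsg.Agent.Lib.PGroup.Critical

set_option autoImplicit false

namespace Cfsg.Agent.CriticalRel

open Subgroup
open scoped commutatorElement

variable {P : Type*} [Group P] [Finite P] {p : ℕ} [hp : Fact p.Prime]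

/-- The relative critical subgroup. -/
theorem exists_critical (hP : IsPGroup p P) (G : Subgroup (MulAut P))
    (hInn : ∀ g : P, MulAut.conj g ∈ G) (R : Subgroup P) (hR : ∀ φ ∈ G, ∀ x ∈ R, φ x ∈ R) :
    ∃ C : Subgroup P, C ≤ R ∧ (∀ φ ∈ G, ∀ x ∈ C, φ x ∈ C) ∧
      (∀ h ∈ C, ∀ g : P, ⁅h, g⁆ ∈ C ⊓ centralizer (C : Set P)) ∧
      (∀ h ∈ C, h ^ p ∈ centralizer (C : Set P)) ∧
      R ⊓ centralizer (C : Set P) ≤ C := by
  have hnormal : ∀ S : Subgroup P, (∀ φ ∈ G, ∀ x ∈ S, φ x ∈ S) → S.Normal := fun S hS =>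
    ⟨fun x hx g => hS _ (hInn g) x hx⟩
  have hsymm : ∀ S : Subgroup P, (∀ φ ∈ G, ∀ x ∈ S, φ x ∈ S) → ∀ φ ∈ G, ∀ x, φ x ∈ S → x ∈ S := by
    intro S hS φ hφ x hx
    have := hS φ⁻¹ (inv_mem hφ) _ hx
    simpa using this
  have hcent : ∀ S : Subgroup P, (∀ φ ∈ G, ∀ x ∈ S, φ x ∈ S) →
      ∀ φ ∈ G, ∀ x ∈ centralizer (S : Set P), φ x ∈ centralizer (S : Set P) := by
    intro S hS φ hφ x hx
    refine mem_centralizer_iff.mpr fun s hs => ?_
    obtain ⟨t, rfl⟩ : ∃ t, φ t = s := φ.surjective s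
    rw [← map_mul, ← map_mul, mem_centralizer_iff.mp hx t (hsymm S hS φ hφ t hs)]
  obtain ⟨D, -, hmax⟩ := Finite.exists_le_maximal (α := Subgroup P)
    (p := fun D => D ≤ R ∧ (∀ φ ∈ G, ∀ x ∈ D, φ x ∈ D) ∧ ∀ x ∈ D, ∀ y ∈ D, x * y = y * x) (a := ⊥)
    ⟨bot_le, fun φ _ x hx => by rw [mem_bot.mp hx, map_one]; exact one_mem _,
      fun x hx y hy => by rw [mem_bot.mp hx, mem_bot.mp hy]⟩
  obtain ⟨hDR, hDG, hDab⟩ := hmax.prop
  haveI hDn := hnormal D hDG
  let H : Subgroup P :=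
    closure {h : P | h ∈ R ∧ h ∈ centralizer (D : Set P) ∧ h ^ p ∈ D ∧ ∀ g : P, ⁅h, g⁆ ∈ D}
  have hHR : H ≤ R := (closure_le _).mpr fun x hx => hx.1
  have hHC : H ≤ centralizer (D : Set P) := (closure_le _).mpr fun x hx => hx.2.1
  have hconj : ∀ d ∈ D, ∀ g : P, g * d * g⁻¹ ∈ D := fun d hd g => hDn.conj_mem d hd g
  have hHcomm : ∀ h ∈ H, ∀ g : P, ⁅h, g⁆ ∈ D := by
    intro h hh
    induction hh using closure_induction with
    | mem x hx => exact hx.2.2.2
    | one => intro g; simp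
    | mul x y _ _ hx hy =>
      intro g
      rw [commutatorElement_mul_left_eq_conj_mul]
      exact mul_mem (hconj _ (hy g) x) (hx g)
    | inv x _ hx =>
      intro g
      rw [commutatorElement_inv_left, ← commutatorElement_inv x g]
      exact inv_inv x ▸ (by simpa using hconj _ (inv_mem (hx g)) x⁻¹)
  have hHpow : ∀ h ∈ H, h ^ p ∈ D := by
    intro h hh
    induction hh using closure_induction with
    | mem x hx => exact hx.2.2.1
    | one => simp
    | mul x y _ _ hx hy =>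
      rw [← QuotientGroup.eq_one_iff, QuotientGroup.mk_pow, QuotientGroup.mk_mul,
        Commute.mul_pow]
      · rw [← QuotientGroup.mk_pow, ← QuotientGroup.mk_pow, (QuotientGroup.eq_one_iff _).mpr hx,
          (QuotientGroup.eq_one_iff _).mpr hy, one_mul]
      · rw [← commutatorElement_eq_one_iff_commute, ← QuotientGroup.mk'_apply,
          ← QuotientGroup.mk'_apply, ← map_commutatorElement, QuotientGroup.mk'_apply,
          QuotientGroup.eq_one_iff]
        exact hHcomm x ‹_› y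
    | inv x _ hx => rw [inv_pow]; exact inv_mem hx
  have hHG : ∀ φ ∈ G, ∀ x ∈ H, φ x ∈ H := by
    intro φ hφ x hx
    induction hx using closure_induction with
    | mem x hx =>
      refine subset_closure ⟨hR φ hφ x hx.1, hcent D hDG φ hφ x hx.2.1, ?_, fun g => ?_⟩
      · rw [← map_pow]; exact hDG φ hφ _ hx.2.2.1
      · have h := hDG φ hφ _ (hx.2.2.2 (φ.symm g))
        rwa [show φ ⁅x, φ.symm g⁆ = ⁅φ x, g⁆ by simp [map_commutatorElement]] at h
    | one => simp
    | mul x y _ _ hx hy => rw [map_mul]; exact mul_mem hx hy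
    | inv x _ hx => rw [map_inv]; exact inv_mem hx
  have hDH : D ≤ H := fun d hd =>
    subset_closure ⟨hDR hd, mem_centralizer_iff.mpr fun y hy => hDab y hy d hd, pow_mem hd p,
      fun g => by
        rw [commutatorElement_def, mul_assoc, mul_assoc, ← mul_assoc g]
        exact mul_mem hd (hconj _ (inv_mem hd) g)⟩
  have hDZ : D ≤ H ⊓ centralizer (H : Set P) := fun d hd =>
    ⟨hDH hd, mem_centralizer_iff.mpr fun h hh => (mem_centralizer_iff.mp (hHC hh) d hd).symm⟩
  have hZD : H ⊓ centralizer (H : Set P) ≤ D :=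
    hmax.2 ⟨inf_le_left.trans hHR, fun φ hφ x hx => ⟨hHG φ hφ x hx.1, hcent H hHG φ hφ x hx.2⟩,
      fun x hx y hy => mem_centralizer_iff.mp hy.2 x hx.1⟩ hDZ
  refine ⟨H, hHR, hHG, fun h hh g => hDZ (hHcomm h hh g), fun h hh => (hDZ (hHpow h hh)).2, ?_⟩
  by_contra hnot
  set Q := R ⊓ centralizer (H : Set P) with hQ
  haveI : Q.Normal := hnormal Q fun φ hφ x hx => ⟨hR φ hφ x hx.1, hcent H hHG φ hφ x hx.2⟩
  have hDQ : D < Q :=
    lt_of_le_of_ne (le_inf hDR (hDZ.trans inf_le_right)) fun h => hnot (h ▸ hDH)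
  obtain ⟨K, _, hDK, hKQ, hKcard, hKD⟩ := PGroup.exists_normal_between hP hDQ
  have hidx : (D.subgroupOf K).index = p := by
    have h1 := (D.subgroupOf K).card_mul_index
    rw [Nat.card_congr (subgroupOfEquivOfLe hDK).toEquiv, hKcard, mul_comm p] at h1
    exact Nat.eq_of_mul_eq_mul_left Nat.card_pos h1
  have hKH : K ≤ H := fun k hk => subset_closure ⟨(hKQ hk).1,
    centralizer_le hDH (hKQ hk).2, by
      have := (D.subgroupOf K).pow_index_mem ⟨k, hk⟩
      rwa [hidx] at this,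
    fun g => hKD (commutator_mem_commutator hk (mem_top g))⟩
  have hKD' : K ≤ D := (le_inf hKH (hKQ.trans inf_le_right)).trans hZD
  have := Nat.le_of_dvd Nat.card_pos (card_dvd_of_le hKD')
  rw [hKcard] at this
  exact absurd this (not_le.mpr (lt_mul_of_one_lt_left Nat.card_pos hp.out.one_lt))

end Cfsg.Agent.CriticalRel
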